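import Cfsg.Agent.Lyons.Three.Cube
import Cfsg.Agent.Recognition.PGroupInduced

/-!
A 2-group with three central involutions permuted by an automorphism of order three: fixed points, and a maximal
abelian invariant normal subgroup.
-/

set_option autoImplicit false
set_option linter.unusedSectionVars false
set_option linter.style.haveILetI false

namespace Cfsg.Lib.Lyons.Three

open Subgroup

universe u

variable {P : Type u} [Group P] [Finite P] {f : MulAut P} {z : P}

/-- An abelian invariant normal subgroup containing the involutions and equal to its centraliser. -/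
structure Max (f : MulAut P) (A : Subgroup P) : Prop where
  normal : A.Normal
  inv : ∀ a ∈ A, f a ∈ A
  comm : ∀ a ∈ A, ∀ b ∈ A, a * b = b * a
  invol : ∀ x : P, x * x = 1 → x ∈ A
  self : ∀ x : P, (∀ a ∈ A, x * a = a * x) → x ∈ A

namespace Hyp

variable (H : Hyp f z)
include H

theorem z_ne : z ≠ 1 := fun e => H.moves (by rw [e, map_one])

theorem surj_inv {A : Subgroup P} (hA : ∀ a ∈ A, f a ∈ A) {a : P} (ha : a ∈ A) :
    ∃ b ∈ A, f b = a := ⟨f (f a), hA _ (hA _ ha), H.cube a⟩

/-- a nontrivial involution is moved -/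
theorem moved_invol {w : P} (hw : w * w = 1) (hw1 : w ≠ 1) : f w ≠ w := by
  intro hfw
  have hfz2 : f z * f z = 1 := by rw [← map_mul, H.sq, map_one]
  have hzz : f (f z) = z * f z := by
    have h2 : f (f z) * f (f z) = 1 := by rw [← map_mul, hfz2, map_one]
    rcases four_of H.cen H.card H.sq H.z_ne H.moves _ h2 with e | e | e | e
    · exact absurd (by simpa using e) H.z_ne
    · exact absurd (by have h3 := congrArg f e; rw [H.cube] at h3; exact h3.symm) H.moves
    · exact absurd (f.injective e) H.moves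
    · exact e
  rcases four_of H.cen H.card H.sq H.z_ne H.moves w hw with rfl | rfl | rfl | rfl
  · exact hw1 rfl
  · exact H.moves hfw
  · exact H.moves (f.injective hfw)
  · rw [map_mul, hzz, ← mul_assoc, H.cen z H.sq (f z), mul_assoc, hfz2, mul_one] at hfw
    have h1 : f z = 1 := by
      calc f z = z * (z * f z) := by rw [← mul_assoc, H.sq, one_mul]
        _ = z * z := by rw [← hfw]
        _ = 1 := H.sq
    exact H.z_ne (by simpa using h1)

theorem four {w : P} (hw : w * w = 1) (hw1 : w ≠ 1) :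
    ∀ x : P, x * x = 1 → x = 1 ∨ x = w ∨ x = f w ∨ x = w * f w :=
  four_of H.cen H.card hw hw1 (H.moved_invol hw hw1)

/-- `f` has no fixed point -/
theorem fix_one : ∀ x : P, f x = x → x = 1 := by
  intro x hx
  obtain ⟨k, hk⟩ := H.two x
  induction k generalizing x with
  | zero => simpa using hk
  | succ k ih =>
    have h1 : x * x = 1 := ih (x * x) (by rw [map_mul, hx]) (by rw [← pow_two, ← pow_mul, ← pow_succ', hk])
    by_contra h
    exact H.moved_invol h1 h hx

/-- no element is fixed modulo an invariant abelian subgroup unless it lies in it -/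
theorem coset_fix {B : Subgroup P} (hB : ∀ a ∈ B, f a ∈ B) {x : P}
    (hx : x⁻¹ * f x ∈ B) : x ∈ B := by
  let φ : B → B := fun b => ⟨(b : P) * (f b)⁻¹, mul_mem b.2 (inv_mem (hB b b.2))⟩
  have hφ : Function.Injective φ := by
    intro b c e
    have e' : (b : P) * (f b)⁻¹ = c * (f c)⁻¹ := congrArg Subtype.val e
    have h1 : f ((c : P)⁻¹ * b) = (c : P)⁻¹ * b := by
      rw [map_mul, map_inv]
      calc (f (c : P))⁻¹ * f b = (c : P)⁻¹ * (c * (f c)⁻¹) * f b := by group
        _ = (c : P)⁻¹ * b := by rw [← e']; group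
    exact (Subtype.ext (inv_mul_eq_one.1 (H.fix_one _ h1)) : c = b).symm
  obtain ⟨b, hb⟩ := Finite.surjective_of_injective hφ ⟨_, hx⟩
  have hb' : (b : P) * (f b)⁻¹ = x⁻¹ * f x := congrArg Subtype.val hb
  have h1 : f (x * b) = x * b := by
    rw [map_mul, show f x = x * (x⁻¹ * f x) by group, ← hb']
    group
  rw [eq_inv_of_mul_eq_one_left (H.fix_one _ h1)]
  exact inv_mem b.2

/-- an element commuting with its images modulo `B`: the product over its orbit lies in `B` -/
theorem orbit_prod {B : Subgroup P} (hB : ∀ a ∈ B, f a ∈ B) {x : P}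
    (hx : (f x * f (f x))⁻¹ * x⁻¹ * (f x * f (f x)) * x ∈ B) : x * (f x * f (f x)) ∈ B := by
  refine H.coset_fix hB ?_
  rw [map_mul, map_mul, H.cube]
  rwa [show (x * (f x * f (f x)))⁻¹ * (f x * (f (f x) * x)) =
    (f x * f (f x))⁻¹ * x⁻¹ * (f x * f (f x)) * x by group]

/-- an element central modulo an invariant normal subgroup it centralises commutes with its image -/
theorem comm_image {A : Subgroup P} (hA : ∀ a ∈ A, f a ∈ A) {x : P} (hx : ∀ s, x * s * x⁻¹ * s⁻¹ ∈ A)
    (hx2 : x * x ∈ A) (hcx : ∀ a ∈ A, x * a = a * x) : x * f x = f x * x := by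
  have h3 : x * (f x * f (f x)) ∈ A := by
    refine H.orbit_prod hA ?_
    have h := hx ((f x * f (f x))⁻¹)
    have h5 : (f x * f (f x))⁻¹ * x⁻¹ * (f x * f (f x)) * x =
        x⁻¹ * (x * (f x * f (f x))⁻¹ * x⁻¹ * ((f x * f (f x))⁻¹)⁻¹) * x := by group
    rw [h5, mul_assoc, ← hcx _ h, inv_mul_cancel_left]
    exact h
  set y := f x with hy
  have hcy : ∀ a ∈ A, y * a = a * y := fun a ha => by
    obtain ⟨b, hb, rfl⟩ := H.surj_inv hA ha
    rw [hy, ← map_mul, hcx b hb, map_mul]
  set c := x * y * x⁻¹ * y⁻¹ with hc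
  have hcA : c ∈ A := hx y
  have hxy : x * y = c * (y * x) := by rw [hc]; group
  have hc2 : c * c = 1 := by
    have h1 : x * x * y = y * (x * x) := (hcy _ hx2).symm
    have h2 : x * x * y = c * c * (y * (x * x)) := by
      calc x * x * y = x * (c * (y * x)) := by rw [mul_assoc, hxy]
        _ = c * (x * y) * x := by rw [← mul_assoc, hcx c hcA]; group
        _ = c * (c * (y * x)) * x := by rw [hxy]
        _ = c * c * (y * (x * x)) := by group
    rw [h1] at h2
    exact right_eq_mul.1 h2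
  set a := x * (y * f y) with ha
  have hfy : f y = y⁻¹ * x⁻¹ * a := by rw [ha]; group
  have hfc : f c = c := by
    rw [hc, map_mul, map_mul, map_mul, map_inv, map_inv, ← hy, hfy]
    have h4 : x⁻¹ * c = c * x⁻¹ := ((show Commute x c from hcx c hcA).inv_left).eq
    calc y * (y⁻¹ * x⁻¹ * a) * y⁻¹ * (y⁻¹ * x⁻¹ * a)⁻¹ = x⁻¹ * (a * y⁻¹) * a⁻¹ * x * y := by group
      _ = x⁻¹ * y⁻¹ * (x * y) := by
        rw [show a * y⁻¹ = y⁻¹ * a from ((show Commute y a from hcy a h3).inv_left).eq.symm]; group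
      _ = x⁻¹ * (y⁻¹ * c) * y * x := by rw [hxy]; group
      _ = x⁻¹ * c * x := by
        rw [show y⁻¹ * c = c * y⁻¹ from ((show Commute y c from hcy c hcA).inv_left).eq]; group
      _ = c := by rw [h4]; group
  rw [hxy, H.fix_one c hfc, one_mul]

theorem exists_max : ∃ A : Subgroup P, Max f A := by
  classical
  haveI : Fact (Nat.Prime 2) := ⟨Nat.prime_two⟩
  let Good : Subgroup P → Prop := fun A =>
    A.Normal ∧ (∀ a ∈ A, f a ∈ A) ∧ (∀ a ∈ A, ∀ b ∈ A, a * b = b * a) ∧ Omg H.cen ≤ A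
  have hW : Good (Omg H.cen) := by
    refine ⟨⟨fun a (ha : a * a = 1) g => ?_⟩, fun a (ha : a * a = 1) => show f a * f a = 1 by
      rw [← map_mul, ha, map_one], fun a (ha : a * a = 1) b _ => (H.cen a ha b).symm, le_rfl⟩
    show g * a * g⁻¹ * (g * a * g⁻¹) = 1
    rw [show g * a * g⁻¹ * (g * a * g⁻¹) = g * (a * a) * g⁻¹ by group, ha, mul_one, mul_inv_cancel]
  haveI : Nonempty {A : Subgroup P // Good A} := ⟨⟨_, hW⟩⟩
  obtain ⟨⟨A, hn, hinv, hcomm, hWA⟩, hmax⟩ :=
    Finite.exists_max fun A : {A : Subgroup P // Good A} => Nat.card A.1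
  haveI := hn
  refine ⟨A, hn, hinv, hcomm, fun x hx => hWA hx, ?_⟩
  by_contra hne
  push Not at hne
  obtain ⟨x₀, hx₀, hx₀A⟩ := hne
  set C := centralizer (A : Set P) with hC
  set π := QuotientGroup.mk' A with hπ
  haveI : (C.map π).Normal := Normal.map inferInstance π (QuotientGroup.mk'_surjective A)
  have hne : C.map π ≠ ⊥ := fun e => hx₀A ((QuotientGroup.eq_one_iff x₀).1
    (mem_bot.1 (e ▸ mem_map_of_mem π (mem_centralizer_iff.2 fun a ha => (hx₀ a ha).symm))))
  obtain ⟨q, hq, hq1, hqc⟩ := Cfsg.Lib.PGroupInduced.exists_central_mem (H.two.to_quotient A) hne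
  obtain ⟨q', hq'C, hq'c, hq'1, hq'2⟩ : ∃ q' ∈ C.map π, q' ∈ center (P ⧸ A) ∧ q' ≠ 1 ∧ q' * q' = 1 := by
    obtain ⟨k, hk⟩ := (H.two.to_quotient A) q
    induction k generalizing q with
    | zero => exact absurd (by simpa using hk) hq1
    | succ k ih =>
      by_cases h : q * q = 1
      · exact ⟨q, hq, hqc, hq1, h⟩
      · exact ih (q * q) (mul_mem hq hq) h (mul_mem hqc hqc) (by rw [← pow_two, ← pow_mul, ← pow_succ', hk])
  obtain ⟨x, hxC, rfl⟩ := hq'C
  have hxA : x ∉ A := fun h => hq'1 ((QuotientGroup.eq_one_iff x).2 h)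
  have hx2 : x * x ∈ A := (QuotientGroup.eq_one_iff _).1 (by rw [← map_mul] at hq'2; exact hq'2)
  have hxs : ∀ s, x * s * x⁻¹ * s⁻¹ ∈ A := fun s => by
    refine (QuotientGroup.eq_one_iff _).1 ?_
    show π (x * s * x⁻¹ * s⁻¹) = 1
    rw [map_mul, map_mul, map_mul, ← mem_center_iff.1 hq'c (π s), map_inv, map_inv]
    group
  have hcx : ∀ a ∈ A, x * a = a * x := fun a ha => (mem_centralizer_iff.1 hxC a ha).symm
  have hys : ∀ s, f x * s * (f x)⁻¹ * s⁻¹ ∈ A := fun s => by
    have := hinv _ (hxs (f.symm s))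
    rwa [map_mul, map_mul, map_mul, map_inv, map_inv, f.apply_symm_apply] at this
  have hcy : ∀ a ∈ A, f x * a = a * f x := fun a ha => by
    obtain ⟨b, hb, rfl⟩ := H.surj_inv hinv ha
    rw [← map_mul, hcx b hb, map_mul]
  have hxy := H.comm_image hinv hxs hx2 hcx
  -- the enlarged subgroup
  set B := closure ((A : Set P) ∪ {x, f x}) with hB
  have hAB : A ≤ B := fun a ha => subset_closure (Or.inl ha)
  have hxB : x ∈ B := subset_closure (Or.inr (Or.inl rfl))
  have hyB : f x ∈ B := subset_closure (Or.inr (Or.inr rfl))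
  have hzB : f (f x) ∈ B := by
    have h3 : x * (f x * f (f x)) ∈ A := H.orbit_prod hinv (by
      have h := hxs ((f x * f (f x))⁻¹)
      rw [show (f x * f (f x))⁻¹ * x⁻¹ * (f x * f (f x)) * x =
        x⁻¹ * (x * (f x * f (f x))⁻¹ * x⁻¹ * ((f x * f (f x))⁻¹)⁻¹) * x by group, mul_assoc, ← hcx _ h,
        inv_mul_cancel_left]
      exact h)
    rw [show f (f x) = (f x)⁻¹ * x⁻¹ * (x * (f x * f (f x))) by group]
    exact mul_mem (mul_mem (inv_mem hyB) (inv_mem hxB)) (hAB h3)
  have hgood : Good B := by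
    refine ⟨⟨fun b hb g => ?_⟩, fun b hb => ?_, ?_, hWA.trans hAB⟩
    · refine closure_induction (p := fun b _ => g * b * g⁻¹ ∈ B) ?_ (by simp) ?_ ?_ hb
      · rintro b (hb | rfl | rfl)
        · exact hAB (hn.conj_mem b hb g)
        · rw [show g * b * g⁻¹ = (b * g * b⁻¹ * g⁻¹)⁻¹ * b by group]
          exact mul_mem (inv_mem (hAB (hxs g))) hxB
        · rw [show g * f x * g⁻¹ = (f x * g * (f x)⁻¹ * g⁻¹)⁻¹ * f x by group]
          exact mul_mem (inv_mem (hAB (hys g))) hyB
      · intro a b _ _ ha hb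
        rw [show g * (a * b) * g⁻¹ = g * a * g⁻¹ * (g * b * g⁻¹) by group]
        exact mul_mem ha hb
      · intro a _ ha
        rw [show g * a⁻¹ * g⁻¹ = (g * a * g⁻¹)⁻¹ by group]
        exact inv_mem ha
    · have : B.map f.toMonoidHom ≤ B := by
        rw [hB, MonoidHom.map_closure, closure_le]
        rintro _ ⟨b, (hb | rfl | rfl), rfl⟩
        exacts [hAB (hinv b hb), hyB, hzB]
      exact this (mem_map_of_mem _ hb)
    · haveI : IsMulCommutative B := isMulCommutative_closure (by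
        rintro a (ha | rfl | rfl) b (hb | rfl | rfl)
        exacts [hcomm a ha b hb, (hcx a ha).symm, (hcy a ha).symm, hcx b hb, rfl, hxy, hcy b hb, hxy.symm, rfl])
      exact fun a ha b hb => congrArg Subtype.val (mul_comm' (⟨a, ha⟩ : B) ⟨b, hb⟩)
  exact hxA ((Subgroup.eq_of_le_of_card_ge hAB (hmax ⟨B, hgood⟩)).symm ▸ hxB)

end Hyp

end Cfsg.Lib.Lyons.Three
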