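import Mathlib
import Cfsg.Agent.PGroups.QuadraticZero
import Cfsg.Agent.Fusion.Small.TopNormal

/-!
A 2-group with three central involutions permuted transitively by an automorphism of odd order has such an
automorphism of order three without fixed points.
-/

set_option autoImplicit false
set_option linter.unusedSectionVars false
set_option linter.style.haveILetI false

namespace Cfsg.Lib.Lyons.Three

open Subgroup

universe u

/-- An automorphism of odd order moving an element by a fixed 2-element fixes it. -/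
theorem eq_one_of_shift {P : Type u} [Group P] [Finite P] {h : MulAut P} (hh : Odd (orderOf h)) {x a : P}
    (h1 : h x = x * a) (h2 : h a = a) {k : ℕ} (hk : a ^ 2 ^ k = 1) : a = 1 := by
  have key : ∀ j : ℕ, (h ^ j) x = x * a ^ j := by
    intro j
    induction j with
    | zero => simp
    | succ j ih => rw [pow_succ', MulAut.mul_apply, ih, map_mul, map_pow, h1, h2, mul_assoc, ← pow_succ']
  have h4 := key (orderOf h)
  rw [pow_orderOf_eq_one, MulAut.one_apply, left_eq_mul] at h4
  have h5 := pow_gcd_eq_one.2 ⟨h4, hk⟩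
  rwa [((Nat.coprime_two_right.2 hh).pow_right k).gcd_eq_one, pow_one] at h5

/-- An automorphism of 3-power order of a 2-group of order at most 16 has order dividing three. -/
theorem cube_of_small {V : Type u} [Group V] [Finite V] {i : ℕ} (hi : i ≤ 4) (hV : Nat.card V = 2 ^ i)
    (σ : MulAut V) {k : ℕ} (hk : σ ^ 3 ^ k = 1) : σ ^ 3 = 1 := by
  classical
  haveI : Fintype V := Fintype.ofFinite V
  have nine : ∀ τ : MulAut V, τ ^ 9 = 1 → τ ^ 3 = 1 := by
    intro τ h9
    by_contra h3
    obtain ⟨v, hv⟩ : ∃ v, (τ ^ 3) v ≠ v := by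
      by_contra! hall
      exact h3 (MulEquiv.ext hall)
    let F : Subgroup V :=
      { carrier := {x | (τ ^ 3) x = x}
        one_mem' := map_one _
        mul_mem' := fun {a b} (ha : (τ ^ 3) a = a) (hb : (τ ^ 3) b = b) => show (τ ^ 3) (a * b) = a * b by
          rw [map_mul, ha, hb]
        inv_mem' := fun {a} (ha : (τ ^ 3) a = a) => show (τ ^ 3) a⁻¹ = a⁻¹ by rw [map_inv, ha] }
    have hper : ∀ w : V, (τ ^ 3) w ≠ w → Function.Injective fun j : Fin 9 => (τ ^ (j : ℕ)) w := by
      intro w hw a b hab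
      by_contra hne
      have main : ∀ c d : ℕ, c < d → d < 9 → (τ ^ c) w = (τ ^ d) w → False := by
        intro c d hcd hd e
        have e1 : (τ ^ (d - c)) w = w := by
          refine (τ ^ c).injective ?_
          rw [← MulAut.mul_apply, ← pow_add, show c + (d - c) = d by omega]
          exact e.symm
        have hmod : ∀ m : ℕ, (τ ^ ((d - c) * m)) w = w := by
          intro m
          induction m with
          | zero => simp
          | succ m ih => rw [Nat.mul_succ, pow_add, MulAut.mul_apply, e1, ih]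
        have hred : ∀ q r : ℕ, (τ ^ (9 * q + r)) w = (τ ^ r) w := fun q r => by
          rw [pow_add, pow_mul, h9, one_pow, one_mul]
        refine hw ?_
        obtain ⟨m, q, hmq⟩ : ∃ m q : ℕ, (d - c) * m = 9 * q + 3 := by
          have : d - c ∈ ({1, 2, 3, 4, 5, 6, 7, 8} : Finset ℕ) := by
            simp only [Finset.mem_insert, Finset.mem_singleton]; omega
          simp only [Finset.mem_insert, Finset.mem_singleton] at this
          rcases this with h | h | h | h | h | h | h | h
          · exact ⟨3, 0, by rw [h]⟩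
          · exact ⟨6, 1, by rw [h]⟩
          · exact ⟨1, 0, by rw [h]⟩
          · exact ⟨3, 1, by rw [h]⟩
          · exact ⟨6, 3, by rw [h]⟩
          · exact ⟨2, 1, by rw [h]⟩
          · exact ⟨3, 2, by rw [h]⟩
          · exact ⟨6, 5, by rw [h]⟩
        rw [← hred q, ← hmq, hmod]
      rcases lt_or_gt_of_ne (fun h => hne (Fin.ext h)) with h | h
      · exact main _ _ h b.2 hab
      · exact main _ _ h a.2 hab.symm
    have hmoved : ∀ w : V, (τ ^ 3) w ≠ w → ∀ j : ℕ, (τ ^ 3) ((τ ^ j) w) ≠ (τ ^ j) w := by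
      intro w hw j e
      refine hw ((τ ^ j).injective ?_)
      rw [← MulAut.mul_apply, ← pow_add, add_comm, pow_add, MulAut.mul_apply]
      exact e
    set O := Finset.univ.image fun j : Fin 9 => (τ ^ (j : ℕ)) v with hO
    have hOc : O.card = 9 := by rw [hO, Finset.card_image_of_injective _ (hper v hv)]; simp
    have h16 : Fintype.card V ≤ 16 := by
      rw [← Nat.card_eq_fintype_card, hV]
      exact (Nat.pow_le_pow_right two_pos hi)
    -- the orbit is everything moved
    have hall : ∀ w : V, (τ ^ 3) w ≠ w → w ∈ O := by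
      intro w hw
      by_contra hwO
      set O' := Finset.univ.image fun j : Fin 9 => (τ ^ (j : ℕ)) w with hO'
      have hO'c : O'.card = 9 := by rw [hO', Finset.card_image_of_injective _ (hper w hw)]; simp
      have hdisj : Disjoint O O' := by
        rw [Finset.disjoint_left]
        intro x hx hx'
        rw [hO, Finset.mem_image] at hx
        rw [hO', Finset.mem_image] at hx'
        obtain ⟨a, -, rfl⟩ := hx
        obtain ⟨b, -, hb⟩ := hx'
        refine hwO ?_
        rw [hO, Finset.mem_image]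
        refine ⟨⟨((a : ℕ) + (9 - (b : ℕ))) % 9, Nat.mod_lt _ (by norm_num)⟩, Finset.mem_univ _, ?_⟩
        show (τ ^ (((a : ℕ) + (9 - (b : ℕ))) % 9)) v = w
        have hpm : ∀ n : ℕ, τ ^ (n % 9) = τ ^ n := fun n => by
          conv_rhs => rw [← Nat.mod_add_div n 9, pow_add, pow_mul, h9, one_pow, mul_one]
        rw [hpm, add_comm, pow_add, MulAut.mul_apply, ← hb, ← MulAut.mul_apply, ← pow_add,
          show 9 - (b : ℕ) + (b : ℕ) = 9 by have := b.2; omega, h9, MulAut.one_apply]
      have := (O ∪ O').card_le_univ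
      rw [Finset.card_union_of_disjoint hdisj, hOc, hO'c] at this
      omega
    have hsplit : Nat.card F + 9 = Nat.card V := by
      rw [Nat.card_eq_fintype_card, Nat.card_eq_fintype_card, ← hOc]
      have h1 : Fintype.card F = (Finset.univ.filter fun x : V => (τ ^ 3) x = x).card :=
        Fintype.card_subtype _
      have h2 : O = Finset.univ.filter fun x : V => ¬ (τ ^ 3) x = x := by
        ext x
        simp only [Finset.mem_filter, Finset.mem_univ, true_and]
        refine ⟨fun hx => ?_, hall x⟩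
        rw [hO, Finset.mem_image] at hx
        obtain ⟨a, -, rfl⟩ := hx
        exact hmoved v hv a
      rw [h1, h2, Finset.card_filter_add_card_filter_not, Finset.card_univ]
    obtain ⟨j, -, hj⟩ := (Nat.dvd_prime_pow Nat.prime_two).1 (hV ▸ F.card_subgroup_dvd_card)
    rw [hj, hV] at hsplit
    have hj4 : j ≤ 4 := by
      by_contra h
      have h5 : 2 ^ 5 ≤ 2 ^ j := Nat.pow_le_pow_right two_pos (by omega)
      have := Nat.pow_le_pow_right two_pos hi
      omega
    interval_cases i <;> interval_cases j <;> simp_all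
  induction k with
  | zero => rw [pow_zero, pow_one] at hk; rw [hk, one_pow]
  | succ k ih =>
    rcases k with _ | k
    · simpa using hk
    · refine ih ?_
      have h := nine (σ ^ 3 ^ k) (by rw [← pow_mul, ← hk]; congr 1; ring)
      rwa [← pow_mul, ← pow_succ] at h

/-- Three central involutions permuted cyclically by an automorphism of order three. -/
structure Hyp {P : Type u} [Group P] (f : MulAut P) (z : P) : Prop where
  two : IsPGroup 2 P
  nab : ∃ x y : P, x * y ≠ y * x
  cen : ∀ x : P, x * x = 1 → ∀ y, y * x = x * y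
  card : Nat.card {x : P // x * x = 1} = 4
  sq : z * z = 1
  moves : f z ≠ z
  cube : ∀ x, f (f (f x)) = x

section

variable {P : Type u} [Group P] [Finite P]

/-- The elements of order at most two, when they are central. -/
def Omg (cen : ∀ x : P, x * x = 1 → ∀ y, y * x = x * y) : Subgroup P where
  carrier := {x | x * x = 1}
  one_mem' := one_mul 1
  mul_mem' {a b} (ha : a * a = 1) (hb : b * b = 1) := show a * b * (a * b) = 1 by
    calc a * b * (a * b) = a * (b * a) * b := by group
      _ = a * (a * b) * b := by rw [← cen b hb a]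
      _ = (a * a) * (b * b) := by group
      _ = 1 := by rw [ha, hb, one_mul]
  inv_mem' {a} (ha : a * a = 1) := show a⁻¹ * a⁻¹ = 1 by rw [← mul_inv_rev, ha, inv_one]

/-- The four elements of order at most two. -/
theorem four_of (cen : ∀ x : P, x * x = 1 → ∀ y, y * x = x * y) (card : Nat.card {x : P // x * x = 1} = 4)
    {f : MulAut P} {w : P} (hw : w * w = 1) (hw1 : w ≠ 1) (hfw : f w ≠ w) :
    ∀ x : P, x * x = 1 → x = 1 ∨ x = w ∨ x = f w ∨ x = w * f w := by
  classical
  intro x hx
  have hfw2 : f w * f w = 1 := by rw [← map_mul, hw, map_one]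
  have hprod : w * f w * (w * f w) = 1 := (Omg cen).mul_mem hw hfw2
  by_contra hne
  push Not at hne
  obtain ⟨n1, n2, n3, n4⟩ := hne
  have h1 : f w ≠ 1 := fun e => hw1 (by simpa using e)
  have h2 : w * f w ≠ 1 := fun e => hfw
    (by rw [← inv_eq_of_mul_eq_one_right e]; exact inv_eq_of_mul_eq_one_right hw)
  have h3 : w * f w ≠ w := fun e => h1 (mul_eq_left.1 e)
  have h4 : w * f w ≠ f w := fun e => hw1 (mul_eq_right.1 e)
  haveI : Fintype {x : P // x * x = 1} := Fintype.ofFinite _
  let T : Finset {x : P // x * x = 1} :=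
    {⟨1, one_mul 1⟩, ⟨w, hw⟩, ⟨f w, hfw2⟩, ⟨w * f w, hprod⟩, ⟨x, hx⟩}
  have hT : T.card = 5 := by
    simp only [T]
    rw [Finset.card_insert_of_notMem, Finset.card_insert_of_notMem, Finset.card_insert_of_notMem,
      Finset.card_insert_of_notMem, Finset.card_singleton] <;>
      simp [Subtype.ext_iff, hw1.symm, h1.symm, h2.symm, hfw.symm, h3.symm, h4.symm, n1.symm, n2.symm,
        n3.symm, n4.symm]
  have h5 := T.card_le_univ
  rw [hT, ← Nat.card_eq_fintype_card, card] at h5
  omega

theorem exists_hyp (two : IsPGroup 2 P) (nab : ∃ x y : P, x * y ≠ y * x)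
    (cen : ∀ x : P, x * x = 1 → ∀ y, y * x = x * y) (card : Nat.card {x : P // x * x = 1} = 4)
    {f₀ : MulAut P} (hodd : Odd (orderOf f₀)) {z : P} (hz : z * z = 1) (hmov : f₀ z ≠ z) :
    ∃ f : MulAut P, Hyp f z := by
  classical
  haveI : Fact (Nat.Prime 2) := ⟨Nat.prime_two⟩
  haveI : Fact (Nat.Prime 3) := ⟨Nat.prime_three⟩
  have hz1 : z ≠ 1 := fun e => hmov (by rw [e, map_one])
  have cube0 : ∀ g : MulAut P, Odd (orderOf g) → ∀ x : P, x * x = 1 → (g ^ 3) x = x := by
    intro g hg x hx
    by_cases hgz : g z = z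
    · by_cases hgx : g x = x
      · simp [pow_succ, hgx]
      · exfalso
        obtain ⟨t, htt⟩ : ∃ t, t = g x := ⟨_, rfl⟩
        have hx1 : x ≠ 1 := fun e => hgx (by rw [e, map_one])
        rcases four_of cen card hx hx1 hgx z hz with e | e | e | e
        · exact hz1 e
        · exact hgx (e ▸ hgz)
        · exact hgx (g.injective (e ▸ hgz))
        · rw [e, map_mul] at hgz
          have e2 : g (g x) = g x * (x * g x) := by
            calc g (g x) = (g x)⁻¹ * (g x * g (g x)) := by group
              _ = _ := by rw [hgz, inv_eq_of_mul_eq_one_right (by rw [← map_mul, hx, map_one] : g x * g x = 1)]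
          have e3 : g (g x) = x := by
            rw [e2, ← mul_assoc, cen x hx (g x), mul_assoc, ← map_mul, hx, map_one, mul_one]
          obtain ⟨m, hm⟩ := hg
          have key : ∀ j : ℕ, (g ^ (2 * j)) x = x := by
            intro j
            induction j with
            | zero => simp
            | succ j ih => rw [show 2 * (j + 1) = 2 + 2 * j by ring, pow_add, MulAut.mul_apply, ih, pow_two,
                MulAut.mul_apply, e3]
          have h3 : (g ^ orderOf g) x = g x := by rw [hm, pow_succ', MulAut.mul_apply, key]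
          rw [pow_orderOf_eq_one, MulAut.one_apply] at h3
          exact hgx h3.symm
    · have hf2 : g (g z) * g (g z) = 1 := by rw [← map_mul, ← map_mul, hz, map_one, map_one]
      have e : g (g z) = z * g z := by
        rcases four_of cen card hz hz1 hgz _ hf2 with e | e | e | e
        · exact absurd (by simpa using e) hz1
        · exfalso
          obtain ⟨m, hm⟩ := hg
          have key : ∀ j : ℕ, (g ^ (2 * j)) z = z := by
            intro j
            induction j with
            | zero => simp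
            | succ j ih => rw [show 2 * (j + 1) = 2 + 2 * j by ring, pow_add, MulAut.mul_apply, ih, pow_two,
                MulAut.mul_apply, e]
          have h3 : (g ^ orderOf g) z = g z := by rw [hm, pow_succ', MulAut.mul_apply, key]
          rw [pow_orderOf_eq_one, MulAut.one_apply] at h3
          exact hgz h3.symm
        · exact absurd (g.injective e) hgz
        · exact e
      have e3 : g (g (g z)) = z := by
        rw [e, map_mul, e, ← mul_assoc, cen z hz (g z), mul_assoc, ← map_mul, hz, map_one, mul_one]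
      have p3 : ∀ y, (g ^ 3) y = g (g (g y)) := fun y => by simp [pow_succ]
      rcases four_of cen card hz hz1 hgz x hx with rfl | rfl | rfl | rfl
      · exact map_one _
      · rw [p3, e3]
      · rw [p3, e3]
      · rw [p3, map_mul, map_mul, map_mul, e3]
  -- the part of 3-power order
  obtain ⟨k, m, hm3, hkm⟩ := Nat.exists_eq_pow_mul_and_not_dvd (orderOf_pos f₀).ne' 3 (by norm_num)
  set f := f₀ ^ m with hf
  have hf3 : f ^ 3 ^ k = 1 := by rw [hf, ← pow_mul, mul_comm, ← hkm, pow_orderOf_eq_one]
  have hfz : f z ≠ z := by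
    intro e
    refine hmov ?_
    have h3 := cube0 f₀ hodd z hz
    have hmod : ∀ n : ℕ, (f₀ ^ n) z = (f₀ ^ (n % 3)) z := fun n => by
      have hmul : ∀ q : ℕ, (f₀ ^ (3 * q)) z = z := by
        intro q
        induction q with
        | zero => simp
        | succ q ih => rw [Nat.mul_succ, pow_add, MulAut.mul_apply, h3, ih]
      conv_lhs => rw [← Nat.mod_add_div n 3, pow_add, MulAut.mul_apply, hmul]
    have hm' : m % 3 = 1 ∨ m % 3 = 2 := by
      have : m % 3 ≠ 0 := fun h => hm3 (Nat.dvd_of_mod_eq_zero h)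
      omega
    rw [hf, hmod] at e
    rcases hm' with h | h <;> rw [h] at e
    · simpa using e
    · calc f₀ z = f₀ ((f₀ ^ 2) z) := by rw [e]
        _ = (f₀ ^ 3) z := by rw [← MulAut.mul_apply, ← pow_succ']
        _ = z := h3
  have hfo : Odd (orderOf f) := by
    refine Odd.of_dvd_nat hodd ?_
    rw [hf, orderOf_dvd_iff_pow_eq_one, ← pow_mul, mul_comm, pow_mul, pow_orderOf_eq_one, one_pow]
  set h := f ^ 3 with hh
  have hho : Odd (orderOf h) := by
    refine Odd.of_dvd_nat hfo ?_
    rw [hh, orderOf_dvd_iff_pow_eq_one, ← pow_mul, mul_comm, pow_mul, pow_orderOf_eq_one, one_pow]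
  have hinv : ∀ x : P, x * x = 1 → h x = x := cube0 f hfo
  refine ⟨f, two, nab, cen, card, hz, hfz, fun x => ?_⟩
  suffices hh1 : h = 1 by
    have := congrArg (fun e : MulAut P => e x) hh1
    simpa [hh, pow_succ] using this
  obtain ⟨R, hRc, hR4, hRdet⟩ := Cfsg.Lib.Fusion.Small.exists_small_detect two
  refine hRdet h (Nat.coprime_two_right.2 hho) ?_
  have hR : ∀ x ∈ R, x * x ∈ Omg cen := fun x hx => by
    show x * x * (x * x) = 1
    rcases hR4 x hx with e | ⟨-, e⟩
    · rw [← pow_two x, e, one_mul]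
    · rw [← e]; simp [pow_succ, mul_assoc]
  have hcm : ∀ a ∈ R, ∀ b ∈ R, b * a * b⁻¹ * a⁻¹ ∈ Omg cen := by
    intro a ha b hb
    have h1 := hR _ (mul_mem hb ha)
    have h2 := hR _ (inv_mem ha)
    have h3 := hR _ hb
    have hc : a⁻¹ * (b * b)⁻¹ * a = (b * b)⁻¹ := by
      rw [mul_assoc, ← cen _ (inv_mem h3 : (b * b)⁻¹ ∈ Omg cen) a, inv_mul_cancel_left]
    rw [show b * a * b⁻¹ * a⁻¹ = b * a * (b * a) * (a⁻¹ * (b * b)⁻¹ * a) * (a⁻¹ * a⁻¹) by group, hc]
    exact mul_mem (mul_mem h1 (inv_mem h3)) h2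
  set N := (Omg cen).subgroupOf R with hN
  haveI hNn : N.Normal := ⟨fun n hn g => by
    rw [hN, mem_subgroupOf] at hn ⊢
    rw [show ((g * n * g⁻¹ : R) : P) = (g : P) * n * (g : P)⁻¹ from rfl, cen _ hn g, mul_inv_cancel_right]
    exact hn⟩
  have hQc : ∀ a b : ↥R ⧸ N, a * b = b * a := by
    intro a b
    induction a using QuotientGroup.induction_on with
    | _ a =>
      induction b using QuotientGroup.induction_on with
      | _ b =>
        rw [← QuotientGroup.mk_mul, ← QuotientGroup.mk_mul, QuotientGroup.eq, hN, mem_subgroupOf,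
          show (((a * b)⁻¹ * (b * a) : R) : P) = (b : P)⁻¹ * (a : P)⁻¹ * ((b : P)⁻¹)⁻¹ * ((a : P)⁻¹)⁻¹ by
            simp [mul_assoc]]
        exact hcm _ (inv_mem a.2) _ (inv_mem b.2)
  letI : CommGroup (↥R ⧸ N) := { (inferInstance : Group (↥R ⧸ N)) with mul_comm := hQc }
  letI : CommGroup ↥(Omg cen) :=
    { (inferInstance : Group ↥(Omg cen)) with mul_comm := fun a b => Subtype.ext (cen _ b.2 a) }
  have hW2 : ∀ w : Additive ↥(Omg cen), w + w = 0 := fun w => congrArg Additive.ofMul (Subtype.ext w.toMul.2)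
  let sqR : ↥R → ↥(Omg cen) := fun x => ⟨(x : P) * x, hR x x.2⟩
  let cm : ↥R → ↥R → ↥(Omg cen) := fun a b => ⟨(b : P) * a * (b : P)⁻¹ * (a : P)⁻¹, hcm a a.2 b b.2⟩
  have hsq : ∀ a b : ↥R, sqR (a * b) = cm a b * (sqR a * sqR b) := fun a b => Subtype.ext (by
    show (a : P) * b * (a * b) = (b * a * (b : P)⁻¹ * (a : P)⁻¹) * ((a * a) * (b * b))
    calc (a : P) * b * (a * b) = (a : P) * (b * a * (b : P)⁻¹ * (a : P)⁻¹) * (a * b * b) := by group
      _ = _ := by rw [cen _ (hcm a a.2 b b.2) a]; group)
  have hcmul : ∀ a b c : ↥R, cm a (b * c) = cm a c * cm a b := fun a b c => Subtype.ext (by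
    show (b : P) * c * a * ((b : P) * c)⁻¹ * (a : P)⁻¹ =
      (c * a * (c : P)⁻¹ * (a : P)⁻¹) * (b * a * (b : P)⁻¹ * (a : P)⁻¹)
    calc (b : P) * c * a * ((b : P) * c)⁻¹ * (a : P)⁻¹
        = (b : P) * (c * a * (c : P)⁻¹ * (a : P)⁻¹) * (a * (b : P)⁻¹ * (a : P)⁻¹) := by group
      _ = _ := by rw [cen _ (hcm a a.2 c c.2) b]; group)
  let q : Additive (↥R ⧸ N) → Additive ↥(Omg cen) := fun v =>
    Additive.ofMul (Quotient.liftOn' v.toMul sqR fun a b hab => Subtype.ext (by
      obtain ⟨n, hn, rfl⟩ : ∃ n, n ∈ N ∧ a * n = b :=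
        ⟨a⁻¹ * b, QuotientGroup.leftRel_apply.mp hab, mul_inv_cancel_left a b⟩
      rw [hN, mem_subgroupOf] at hn
      show (a : P) * a = a * n * (a * n)
      rw [show (a : P) * n * (a * n) = a * ((n : P) * a) * n by group, ← cen _ hn a,
        show (a : P) * (a * n) * n = a * a * ((n : P) * n) by group,
        show (n : P) * n = 1 from hn, mul_one]))
  have hq' : ∀ a : ↥R, q (Additive.ofMul (a : ↥R ⧸ N)) = Additive.ofMul (sqR a) := fun a => rfl
  have hVcard : Nat.card (↥R ⧸ N) ≤ 2 ^ (2 * 2) := by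
    refine Cfsg.Lib.PGroups.QuadraticZero.card_le (V := Additive (↥R ⧸ N)) ?_ hW2 q ?_ ?_ ?_
    · intro v
      obtain ⟨a, ha⟩ : ∃ a : ↥R, Additive.ofMul (a : ↥R ⧸ N) = v :=
        ⟨_, congrArg Additive.ofMul (QuotientGroup.out_eq' v.toMul)⟩
      subst ha
      refine congrArg Additive.ofMul ?_
      show ((a : ↥R ⧸ N) * (a : ↥R ⧸ N)) = 1
      rw [← QuotientGroup.mk_mul, QuotientGroup.eq_one_iff, hN, mem_subgroupOf]
      exact hR a a.2
    · intro x v w
      obtain ⟨a, rfl⟩ : ∃ a : ↥R, Additive.ofMul (a : ↥R ⧸ N) = x :=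
        ⟨_, congrArg Additive.ofMul (QuotientGroup.out_eq' x.toMul)⟩
      obtain ⟨b, rfl⟩ : ∃ b : ↥R, Additive.ofMul (b : ↥R ⧸ N) = v :=
        ⟨_, congrArg Additive.ofMul (QuotientGroup.out_eq' v.toMul)⟩
      obtain ⟨c, rfl⟩ : ∃ c : ↥R, Additive.ofMul (c : ↥R ⧸ N) = w :=
        ⟨_, congrArg Additive.ofMul (QuotientGroup.out_eq' w.toMul)⟩
      have h0 : q 0 = 0 := by
        rw [show (0 : Additive (↥R ⧸ N)) = Additive.ofMul ((1 : ↥R) : ↥R ⧸ N) from rfl, hq']
        exact congrArg Additive.ofMul (Subtype.ext (one_mul (1 : P)))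
      have hadd : ∀ a b : ↥R, (Additive.ofMul (a : ↥R ⧸ N)) + Additive.ofMul (b : ↥R ⧸ N) =
          Additive.ofMul (((a * b : ↥R)) : ↥R ⧸ N) := fun _ _ => rfl
      simp only [hadd, hq', h0, mul_assoc a b c, hsq a, hcmul, ofMul_mul, add_zero, sub_eq_add_neg]
      have hneg : ∀ w : Additive ↥(Omg cen), -w = w := fun w => (eq_neg_of_add_eq_zero_left (hW2 w)).symm
      simp only [hneg]
      abel_nf
      simp [two_zsmul, hW2, show ∀ w : Additive ↥(Omg cen), (4 : ℤ) • w = 0 from fun w => by
        rw [show (4 : ℤ) = 2 + 2 from rfl, add_zsmul, two_zsmul, hW2]]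
    · intro v
      obtain ⟨a, rfl⟩ : ∃ a : ↥R, Additive.ofMul (a : ↥R ⧸ N) = v :=
        ⟨_, congrArg Additive.ofMul (QuotientGroup.out_eq' v.toMul)⟩
      rw [hq']
      constructor
      · intro e
        refine congrArg Additive.ofMul ((QuotientGroup.eq_one_iff a).2 ?_)
        rw [hN, mem_subgroupOf]
        exact congrArg (fun w : Additive ↥(Omg cen) => (w.toMul : P)) e
      · intro e
        have ha := (QuotientGroup.eq_one_iff a).1 (congrArg Additive.toMul e)
        rw [hN, mem_subgroupOf] at ha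
        exact congrArg Additive.ofMul (Subtype.ext ha)
    · show Nat.card ↥(Omg cen) = 2 ^ 2
      exact card
  obtain ⟨i, hi⟩ := IsPGroup.iff_card.1 ((two.to_subgroup R).to_quotient N)
  have hi4 : i ≤ 4 := (Nat.pow_le_pow_iff_right one_lt_two).1 (hi ▸ hVcard)
  -- the action on the quotient
  have hRf : ∀ (g : MulAut P), R.map g.toMonoidHom = R := fun g =>
    characteristic_iff_map_eq.1 hRc g
  let fR : MulAut ↥R := (R.equivMapOfInjective f.toMonoidHom f.injective).trans (MulEquiv.subgroupCongr (hRf f))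
  have hfR : ∀ x : ↥R, (fR x : P) = f x := fun _ => rfl
  have hNmap : N.map fR.toMonoidHom = N := by
    refine eq_of_le_of_card_ge ?_ (le_of_eq (card_map_of_injective fR.injective).symm)
    rintro _ ⟨n, hn, rfl⟩
    have hn' : (n : P) * n = 1 := hn
    show (fR n : P) * fR n = 1
    rw [hfR, ← map_mul, hn', map_one]
  let σ : MulAut (↥R ⧸ N) := QuotientGroup.congr N N fR hNmap
  have hσ : ∀ (j : ℕ) (x : ↥R), (σ ^ j) (x : ↥R ⧸ N) = (((fR ^ j) x : ↥R) : ↥R ⧸ N) := by
    intro j
    induction j with
    | zero => intro x; rfl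
    | succ j ih => intro x; rw [pow_succ', pow_succ', MulAut.mul_apply, ih]; rfl
  have hfRj : ∀ (j : ℕ) (x : ↥R), ((fR ^ j) x : P) = (f ^ j) x := by
    intro j
    induction j with
    | zero => intro x; rfl
    | succ j ih => intro x; rw [pow_succ', pow_succ', MulAut.mul_apply, MulAut.mul_apply, hfR, ih]
  have hσ3 := cube_of_small hi4 hi σ (k := k) (by
    refine MulEquiv.ext fun v => ?_
    induction v using QuotientGroup.induction_on with
    | _ a =>
      rw [hσ, MulAut.one_apply]
      exact congrArg _ (Subtype.ext (by rw [hfRj, hf3, MulAut.one_apply])))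
  intro x hx
  have h1 := congrArg (fun e : MulAut (↥R ⧸ N) => e ((⟨x, hx⟩ : ↥R) : ↥R ⧸ N)) hσ3
  simp only [hσ, MulAut.one_apply] at h1
  have h2 := QuotientGroup.eq.1 h1.symm
  rw [hN, mem_subgroupOf] at h2
  have h2' : x⁻¹ * h x ∈ Omg cen := by simpa [hfRj, hh] using h2
  have ha := eq_one_of_shift hho (x := x) (a := x⁻¹ * h x) (by group) (hinv _ h2')
    (k := 1) (by rw [pow_one, pow_two]; exact h2')
  exact (inv_mul_eq_one.1 ha).symm

end

end Cfsg.Lib.Lyons.Three
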