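import Cfsg.Agent.Lyons.Three.Structure
import Cfsg.Agent.Lyons.Setting

/-!
A 2-group with three involutions, all central and permuted transitively by an automorphism of odd order, is of
type `U₃(4)` or abelian.
-/

set_option autoImplicit false
set_option linter.unusedSectionVars false
set_option linter.style.haveILetI false

namespace Cfsg.Lib.Lyons

open Subgroup Cfsg.Lib.BenderSE.Ring2

universe u

namespace Three

variable {P : Type u} [Group P] [Finite P] {f : MulAut P} {z : P}

theorem Hyp.card_all {A : Subgroup P} (H : Hyp f z) (M : Max f A) : Nat.card P = 64 := by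
  rw [← A.card_mul_index, H.card_A M, H.index_A M]

theorem Hyp.central_iff (H : Hyp f z) (x : P) : x * x = 1 ↔ ∀ y, y * x = x * y := by
  obtain ⟨A, M⟩ := H.exists_max
  refine ⟨H.cen x, fun hx => ?_⟩
  by_contra hx2
  have hxA : x ∈ A := M.self x fun a _ => (hx a).symm
  have hall : ∀ s, s ∈ A := fun s => H.mem_of_fix M hxA hx2 (by rw [hx s, mul_inv_cancel_right])
  obtain ⟨a, b, hab⟩ := H.nab
  exact hab (M.comm a (hall a) b (hall b))

/-- the centraliser of an element of order four -/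
theorem Hyp.cent (H : Hyp f z) {x : P} (hx : x * x ≠ 1) :
    Nat.card (centralizer ({x} : Set P)) = 16 ∧
      ∀ a ∈ centralizer ({x} : Set P), ∀ b ∈ centralizer ({x} : Set P), a * b = b * a := by
  classical
  haveI : Fact (Nat.Prime 2) := ⟨Nat.prime_two⟩
  obtain ⟨A, M⟩ := H.exists_max
  set K := centralizer ({x} : Set P) with hK
  have hmemK : ∀ a, a ∈ K ↔ a * x = x * a := fun a => mem_centralizer_singleton_iff
  by_cases hxA : x ∈ A
  · have hKA : K = A := by
      ext a
      rw [hmemK]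
      exact ⟨fun e => H.mem_of_fix M hxA hx (by rw [e, mul_inv_cancel_right]), fun ha => M.comm a ha x hxA⟩
    rw [hKA]
    exact ⟨H.card_A M, M.comm⟩
  -- at least 16
  let κ : P →* Omg H.cen := MonoidHom.mk' (fun s => ⟨x⁻¹ * (s * x * s⁻¹), by
      show x⁻¹ * (s * x * s⁻¹) * (x⁻¹ * (s * x * s⁻¹)) = 1
      have h := H.comm_sq M x⁻¹ s
      simp only [inv_inv] at h
      simpa [mul_assoc] using h⟩) fun s t => Subtype.ext (by
    show x⁻¹ * (s * t * x * (s * t)⁻¹) = x⁻¹ * (s * x * s⁻¹) * (x⁻¹ * (t * x * t⁻¹))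
    have h := H.comm_sq M x⁻¹ t
    simp only [inv_inv] at h
    have hc : s⁻¹ * (x⁻¹ * t * x * t⁻¹) = x⁻¹ * t * x * t⁻¹ * s⁻¹ := H.cen _ h s⁻¹
    calc x⁻¹ * (s * t * x * (s * t)⁻¹) = x⁻¹ * (s * x * ((x⁻¹ * t * x * t⁻¹) * s⁻¹)) := by group
      _ = _ := by rw [← hc]; group)
  have hker : κ.ker = K := by
    ext s
    rw [MonoidHom.mem_ker, Subtype.ext_iff, hmemK]
    show x⁻¹ * (s * x * s⁻¹) = 1 ↔ _
    rw [inv_mul_eq_one, eq_mul_inv_iff_mul_eq]
    exact eq_comm
  have hge : 16 ≤ Nat.card K := by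
    have h1 := κ.ker.card_mul_index
    rw [Subgroup.index_ker, hker, H.card_all M] at h1
    have h2 := Nat.le_of_dvd (by norm_num) (show Nat.card κ.range ∣ 4 from H.card ▸ κ.range.card_subgroup_dvd_card)
    have h3 := Nat.mul_le_mul_left (Nat.card K) h2
    omega
  -- at most 16
  haveI := M.normal
  let π : K →* P ⧸ A := (QuotientGroup.mk' A).comp K.subtype
  have hπker : ∀ a : π.ker, ((a : K) : P) * (a : K) = 1 := fun a => by
    by_contra h
    refine hxA (H.mem_of_fix M ((QuotientGroup.eq_one_iff _).1 (MonoidHom.mem_ker.1 a.2)) h ?_)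
    show x * ((a : K) : P) * x⁻¹ = ((a : K) : P)
    rw [← (hmemK _).1 (a : K).2, mul_inv_cancel_right]
  have hle : Nat.card K ≤ 16 := by
    have h1 := π.ker.card_mul_index
    rw [Subgroup.index_ker] at h1
    have h2 : Nat.card π.ker ≤ 4 := H.card ▸ Nat.card_le_card_of_injective
      (fun a : π.ker => (⟨((a : K) : P), hπker a⟩ : {w : P // w * w = 1}))
      (fun a b e => Subtype.ext (Subtype.ext (congrArg (fun w : {w : P // w * w = 1} => (w : P)) e)))
    have h3 : Nat.card π.range ≤ 4 := H.index_A M ▸ π.range.card_le_card_group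
    have h4 := Nat.mul_le_mul h2 h3
    omega
  refine ⟨le_antisymm hle hge, ?_⟩
  -- the centre of the centraliser has index at most two
  intro a ha b hb
  have hcen : ∀ (w : P) (hwK : w ∈ K), (∀ k ∈ K, k * w = w * k) → (⟨w, hwK⟩ : K) ∈ center K :=
    fun w hwK h => mem_center_iff.2 fun k => Subtype.ext (h k k.2)
  have hxK : x ∈ K := (hmemK x).2 rfl
  have hxc := hcen x hxK fun k hk => (hmemK k).1 hk
  have hW : ∀ w : P, w * w = 1 → w ∈ K := fun w hw => (hmemK w).2 (H.cen w hw x).symm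
  have hlt : 4 < Nat.card (center K) := by
    let inj : Option {w : P // w * w = 1} → center K := fun o =>
      o.elim ⟨⟨x, hxK⟩, hxc⟩ fun w => ⟨⟨w, hW w w.2⟩, hcen w (hW w w.2) fun k _ => H.cen w w.2 k⟩
    have hinj : Function.Injective inj := by
      rintro (_ | u) (_ | v) e
      · rfl
      · exact absurd (show x * x = 1 by rw [show x = v from congrArg (fun c : center K => ((c : K) : P)) e]; exact v.2) hx
      · exact absurd (show x * x = 1 by
          rw [← show (u : P) = x from congrArg (fun c : center K => ((c : K) : P)) e]; exact u.2) hx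
      · exact congrArg some (Subtype.ext (congrArg (fun c : center K => ((c : K) : P)) e))
    have h1 := Nat.card_le_card_of_injective inj hinj
    rw [Finite.card_option, H.card] at h1
    omega
  have hK16 : Nat.card K = 2 ^ 4 := le_antisymm hle hge
  obtain ⟨j, hj, hj'⟩ := (Nat.dvd_prime_pow Nat.prime_two).1 (hK16 ▸ (center K).card_subgroup_dvd_card)
  have hidx := (center K).card_mul_index
  rw [hK16] at hidx
  have hindex : (center K).index = 1 ∨ (center K).index = 2 := by
    have h0 : 0 < (center K).index := Nat.pos_of_ne_zero Subgroup.index_ne_zero_of_finite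
    have h3 : (center K).index ≤ 3 := by
      by_contra hc
      have h4 : 5 * 4 ≤ Nat.card (center K) * (center K).index := Nat.mul_le_mul (by omega) (by omega)
      omega
    have h5 : ¬ (center K).index = 3 := by
      intro e
      rw [e] at hidx
      omega
    omega
  rcases hindex with h | h
  · exact congrArg Subtype.val (mem_center_iff.1 (Subgroup.index_eq_one.1 h ▸ mem_top (⟨b, hb⟩ : K)) ⟨a, ha⟩)
  · by_cases hac : (⟨a, ha⟩ : K) ∈ center K
    · exact (congrArg Subtype.val (mem_center_iff.1 hac ⟨b, hb⟩)).symm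
    by_cases hbc : (⟨b, hb⟩ : K) ∈ center K
    · exact congrArg Subtype.val (mem_center_iff.1 hbc ⟨a, ha⟩)
    have hab := (mul_mem_iff_of_index_two h).2 (show (⟨a, ha⟩ : K) ∈ center K ↔ (⟨b, hb⟩ : K) ∈ center K by
      simp [hac, hbc])
    have e : a * (a * b) = a * b * a := congrArg Subtype.val (mem_center_iff.1 hab ⟨a, ha⟩)
    rw [mul_assoc a b a] at e
    exact mul_left_cancel e

/-- every involution is the square of an element centralising a given one -/
theorem Hyp.exists_sqrt (H : Hyp f z) {x w : P} (hx : x * x ≠ 1) (hw : w * w = 1) :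
    ∃ y, x * y = y * x ∧ y * y = w := by
  obtain ⟨A, M⟩ := H.exists_max
  obtain ⟨hcard, hcomm⟩ := H.cent hx
  set K := centralizer ({x} : Set P) with hK
  let sq : K →* Omg H.cen := MonoidHom.mk' (fun a => ⟨(a : P) * a, H.sq_sq M a⟩) fun a b => Subtype.ext (by
    show (a : P) * b * (a * b) = a * a * (b * b)
    calc (a : P) * b * (a * b) = a * (b * a) * b := by group
      _ = _ := by rw [hcomm _ b.2 _ a.2]; group)
  have hker : Nat.card sq.ker = 4 := by
    rw [← H.card]
    exact Nat.card_congr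
      { toFun := fun a => ⟨((a : K) : P), congrArg Subtype.val (MonoidHom.mem_ker.1 a.2)⟩
        invFun := fun v => ⟨⟨v, mem_centralizer_singleton_iff.2 (H.cen v v.2 x).symm⟩,
          MonoidHom.mem_ker.2 (Subtype.ext v.2)⟩
        left_inv := fun _ => rfl
        right_inv := fun _ => rfl }
  have hsurj : sq.range = ⊤ := by
    refine eq_top_of_card_eq _ ?_
    have h1 := sq.ker.card_mul_index
    rw [Subgroup.index_ker, hker, hcard] at h1
    rw [show Nat.card (Omg H.cen) = 4 from H.card]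
    omega
  obtain ⟨y, hy⟩ := MonoidHom.range_eq_top.1 hsurj ⟨w, hw⟩
  exact ⟨y, (mem_centralizer_singleton_iff.1 y.2).symm, congrArg Subtype.val hy⟩

end Three

/-- A 2-subgroup with three involutions, all central, which an element of odd order of the normaliser permutes
transitively, is of type `U₃(4)` unless it is abelian. -/
theorem uFour_of_three {G : Type u} [Group G] [Finite G] {R : Subgroup G} (h2 : IsPGroup 2 R)
    (hnab : ∃ x ∈ R, ∃ y ∈ R, x * y ≠ y * x)
    (hcen : ∀ x ∈ R, x * x = 1 → ∀ y ∈ R, y * x = x * y)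
    (hcard : Nat.card {x : G // x ∈ R ∧ x * x = 1} = 4)
    {g z : G} (hg : g ∈ normalizer (R : Set G)) (hgo : Odd (orderOf g)) (hz : z ∈ R) (hz2 : z * z = 1)
    (hgz : g * z * g⁻¹ ≠ z) : UFour R := by
  set f₀ : MulAut R := R.normalizerMonoidHom ⟨g, hg⟩ with hf₀
  have hfodd : Odd (orderOf f₀) := by
    refine Odd.of_dvd_nat hgo ?_
    rw [hf₀, orderOf_dvd_iff_pow_eq_one, ← map_pow]
    have : (⟨g, hg⟩ : normalizer (R : Set G)) ^ orderOf g = 1 := Subtype.ext (by simp [pow_orderOf_eq_one])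
    rw [this, map_one]
  obtain ⟨x₀, hx₀, y₀, hy₀, hxy₀⟩ := hnab
  have hcard' : Nat.card {x : R // x * x = 1} = 4 := by
    rw [← hcard]
    exact Nat.card_congr
      { toFun := fun x => ⟨((x : R) : G), (x : R).2, congrArg Subtype.val x.2⟩
        invFun := fun x => ⟨⟨x, x.2.1⟩, Subtype.ext x.2.2⟩
        left_inv := fun _ => rfl
        right_inv := fun _ => rfl }
  obtain ⟨f, H⟩ := Three.exists_hyp h2 ⟨⟨x₀, hx₀⟩, ⟨y₀, hy₀⟩, fun e => hxy₀ (congrArg Subtype.val e)⟩
    (fun x hx y => Subtype.ext (hcen x x.2 (congrArg Subtype.val hx) y y.2)) hcard' (f₀ := f₀) hfodd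
    (z := ⟨z, hz⟩) (Subtype.ext hz2) (fun e => hgz (congrArg Subtype.val e))
  obtain ⟨A, M⟩ := H.exists_max
  have hc : ∀ x (hx : x ∈ R), x ∈ cenOf R ↔ (⟨x, hx⟩ : R) * ⟨x, hx⟩ = 1 := fun x hx => by
    rw [H.central_iff, mem_cenOf]
    exact ⟨fun h y => Subtype.ext (h.2 y y.2), fun h => ⟨hx, fun y hy => congrArg Subtype.val (h ⟨y, hy⟩)⟩⟩
  refine ⟨fun x hx => ?_, fun x hx => ?_, fun x hx hxZ w hw => ?_, fun x hx y hy w hw hyZ hxy hyw => ?_, ?_, ?_⟩
  · rw [hc x hx]
    exact ⟨fun e => Subtype.ext e, fun e => congrArg Subtype.val e⟩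
  · exact (hc _ (mul_mem hx hx)).2 (H.sq_sq M ⟨x, hx⟩)
  · obtain ⟨y, h1, h3⟩ := H.exists_sqrt (x := ⟨x, hx⟩) (w := ⟨w, hw.1⟩) (fun e => hxZ ((hc x hx).2 e))
      ((hc w hw.1).1 hw)
    exact ⟨y, y.2, congrArg Subtype.val h1, congrArg Subtype.val h3⟩
  · have h := (H.cent (x := ⟨y, hy⟩) (fun e => hyZ ((hc y hy).2 e))).2 ⟨x, hx⟩
      (mem_centralizer_singleton_iff.2 (Subtype.ext hxy)) ⟨w, hw⟩
      (mem_centralizer_singleton_iff.2 (Subtype.ext hyw.symm))
    exact congrArg Subtype.val h
  · rw [← hcard']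
    exact Nat.card_congr
      { toFun := fun x => ⟨⟨x, x.2.1⟩, (hc x x.2.1).1 x.2⟩
        invFun := fun x => ⟨((x : R) : G), (hc _ (x : R).2).2 x.2⟩
        left_inv := fun _ => rfl
        right_inv := fun _ => rfl }
  · exact H.card_all M

end Cfsg.Lib.Lyons
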