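import Cfsg.Agent.Lyons.Three.Basic

/-!
A 2-group with three central involutions permuted by an automorphism of order three: the structure.
-/

set_option autoImplicit false
set_option linter.unusedSectionVars false
set_option linter.style.haveILetI false

namespace Cfsg.Lib.Lyons.Three

open Subgroup

universe u

variable {P : Type u} [Group P] [Finite P] {f : MulAut P} {z : P} {A : Subgroup P}

/-- some power of an element with nontrivial square has order four -/
theorem exists_four (h2 : IsPGroup 2 P) {w : P} (hw : w * w ≠ 1) :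
    ∃ j : ℕ, w ^ j * w ^ j ≠ 1 ∧ w ^ j * w ^ j * (w ^ j * w ^ j) = 1 := by
  obtain ⟨k, hk⟩ := h2 w
  induction k generalizing w with
  | zero => exact absurd (by rw [show w = 1 by simpa using hk, one_mul]) hw
  | succ k ih =>
    by_cases h : w * w * (w * w) = 1
    · exact ⟨1, by simpa using hw, by simpa using h⟩
    · obtain ⟨j, hj⟩ := ih (w := w * w) h (by rw [← pow_two, ← pow_mul, ← pow_succ', hk])
      exact ⟨2 * j, by rwa [pow_mul, pow_two]⟩

/-- The commutator map `a⁻¹ (s a s⁻¹)`. -/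
def nn (s a : P) : P := a⁻¹ * (s * a * s⁻¹)

theorem conj_eq_mul_nn (s a : P) : s * a * s⁻¹ = a * nn s a := by rw [nn, mul_inv_cancel_left]

/-- `x` is outside `A`, with square in `A`, and central modulo `A`. -/
def Near (A : Subgroup P) (x : P) : Prop := x ∉ A ∧ x * x ∈ A ∧ ∀ s, x * s * x⁻¹ * s⁻¹ ∈ A

namespace Hyp

variable (H : Hyp f z) (M : Max f A)
include H M

theorem nn_mem {s a : P} (ha : a ∈ A) : nn s a ∈ A := mul_mem (inv_mem ha) (M.normal.conj_mem a ha s)

theorem orbit_one {u : P} (hu : u ∈ A) : u * (f u * f (f u)) = 1 := by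
  refine H.fix_one _ ?_
  rw [map_mul, map_mul, H.cube, ← mul_assoc]
  exact M.comm _ (mul_mem (M.inv u hu) (M.inv _ (M.inv u hu))) u hu

theorem exists_sq_ne : ∃ a ∈ A, a * a ≠ 1 := by
  by_contra! hall
  obtain ⟨x, y, hxy⟩ := H.nab
  exact hxy (M.comm x (M.self x fun a ha => H.cen a (hall a ha) x) y (M.self y fun a ha => H.cen a (hall a ha) y))

/-- an element fixing `u` and moving its image by an involution fixes the image -/
theorem kill {s u : P} (hu : u ∈ A) (hs : s * (f s * f (f s)) ∈ A) (h1 : s * u * s⁻¹ = u)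
    (h2 : nn s (f u) * nn s (f u) = 1) : s * f u * s⁻¹ = f u := by
  set a := nn s (f u) with ha
  have hc : ∀ y, y * a = a * y := H.cen a h2
  have hfu := M.inv u hu
  have hffa : f (f a) * f (f a) = 1 := by rw [← map_mul, ← map_mul, h2, map_one, map_one]
  have e1 : s * f u * s⁻¹ = f u * a := conj_eq_mul_nn s (f u)
  have e2 : f s * f u * (f s)⁻¹ = f u := by rw [← map_inv, ← map_mul, ← map_mul, h1]
  have e3 : f (f u) = (f u)⁻¹ * u⁻¹ := by
    have h3 := H.orbit_one M hu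
    rw [← mul_assoc] at h3
    rw [eq_inv_of_mul_eq_one_right h3]; group
  have e4 : s * f (f u) * s⁻¹ = f (f u) * a := by
    rw [e3, show s * ((f u)⁻¹ * u⁻¹) * s⁻¹ = (s * f u * s⁻¹)⁻¹ * (s * u * s⁻¹)⁻¹ by group, e1, h1,
      mul_inv_rev, inv_eq_of_mul_eq_one_right h2, ← hc ((f u)⁻¹), mul_assoc ((f u)⁻¹), ← hc u⁻¹, mul_assoc]
  have e5 : f (f s) * f u * (f (f s))⁻¹ = f u * f (f a) := by
    have := congrArg (fun t => f (f t)) e4
    simpa [H.cube] using this
  have e6 : s * (f s * f (f s)) * f u * (s * (f s * f (f s)))⁻¹ = f u * a * f (f a) := by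
    calc s * (f s * f (f s)) * f u * (s * (f s * f (f s)))⁻¹
        = s * (f s * (f (f s) * f u * (f (f s))⁻¹) * (f s)⁻¹) * s⁻¹ := by group
      _ = s * (f s * f u * (f (f a) * (f s)⁻¹)) * s⁻¹ := by rw [e5]; group
      _ = s * (f s * f u * (f s)⁻¹ * f (f a)) * s⁻¹ := by rw [← H.cen _ hffa ((f s)⁻¹)]; group
      _ = s * f u * (f (f a) * s⁻¹) := by rw [e2]; group
      _ = s * f u * s⁻¹ * f (f a) := by rw [← H.cen _ hffa s⁻¹]; group
      _ = _ := by rw [e1]
  rw [M.comm _ hs _ hfu, mul_inv_cancel_right, mul_assoc, left_eq_mul] at e6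
  have h7 : f (f a) = a := by rw [eq_inv_of_mul_eq_one_right e6, inv_eq_of_mul_eq_one_right h2]
  have h8 : a = f a := by
    have := congrArg f h7
    rwa [H.cube] at this
  rw [e1, H.fix_one a h8.symm, mul_one]

theorem nn_four {s v : P} (hv : v ∈ A) (h4 : v * v * (v * v) = 1) : nn s v * nn s v = 1 := by
  have hsv := M.normal.conj_mem v hv s
  rw [nn, show v⁻¹ * (s * v * s⁻¹) * (v⁻¹ * (s * v * s⁻¹)) = v⁻¹ * (s * v * s⁻¹ * v⁻¹) * (s * v * s⁻¹) by group,
    ← M.comm _ (inv_mem hv) _ hsv,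
    show v⁻¹ * (v⁻¹ * (s * v * s⁻¹)) * (s * v * s⁻¹) = (v * v)⁻¹ * (s * (v * v) * s⁻¹) by group,
    H.cen _ h4 s, mul_inv_cancel_right, inv_mul_cancel]

/-- the elements of order four of `A` are generated by one of them and its image -/
theorem fix_span {s u : P} (hu : u ∈ A) (hu2 : u * u ≠ 1) (hu4 : u * u * (u * u) = 1)
    (h1 : s * u * s⁻¹ = u) (h2 : s * f u * s⁻¹ = f u) :
    ∀ a ∈ A, a * a * (a * a) = 1 → s * a * s⁻¹ = a := by
  intro a ha ha4
  have hfu := M.inv u hu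
  have hfix : ∀ t ∈ A, s * t * s⁻¹ = t → a * a = t * t → s * a * s⁻¹ = a := by
    intro t ht hst hat
    have h3 : t⁻¹ * a * (t⁻¹ * a) = 1 := by
      rw [show t⁻¹ * a * (t⁻¹ * a) = t⁻¹ * (a * t⁻¹) * a by group, M.comm a ha _ (inv_mem ht),
        show t⁻¹ * (t⁻¹ * a) * a = (t * t)⁻¹ * (a * a) by group, hat, inv_mul_cancel]
    calc s * a * s⁻¹ = s * t * s⁻¹ * (s * (t⁻¹ * a) * s⁻¹) := by group
      _ = t * (t⁻¹ * a) := by rw [hst, H.cen _ h3 s, mul_inv_cancel_right]
      _ = a := by group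
  rcases H.four hu4 hu2 (a * a) ha4 with e | e | e | e
  · exact hfix 1 (one_mem _) (by group) (by rw [e, one_mul])
  · exact hfix u hu h1 e
  · exact hfix _ hfu h2 (by rw [e, map_mul])
  · refine hfix _ (mul_mem hu hfu) ?_ ?_
    · rw [show s * (u * f u) * s⁻¹ = s * u * s⁻¹ * (s * f u * s⁻¹) by group, h1, h2]
    · rw [e, map_mul, show u * f u * (u * f u) = u * (f u * u) * f u by group, M.comm _ hfu u hu]
      group

theorem near_orbit {x : P} (hx : Near A x) : x * (f x * f (f x)) ∈ A := by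
  refine H.orbit_prod M.inv ?_
  have h := hx.2.2 ((f x * f (f x))⁻¹)
  rw [show (f x * f (f x))⁻¹ * x⁻¹ * (f x * f (f x)) * x =
    x⁻¹ * (x * (f x * f (f x))⁻¹ * x⁻¹ * ((f x * f (f x))⁻¹)⁻¹) * (x⁻¹)⁻¹ by group]
  exact M.normal.conj_mem _ h _

theorem near_image {x : P} (hx : Near A x) : Near A (f x) := by
  refine ⟨fun h => hx.1 ?_, by rw [← map_mul]; exact M.inv _ hx.2.1, fun s => ?_⟩
  · obtain ⟨b, hb, e⟩ := H.surj_inv M.inv h
    exact f.injective e ▸ hb
  · have := M.inv _ (hx.2.2 (f.symm s))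
    rwa [map_mul, map_mul, map_mul, map_inv, map_inv, f.apply_symm_apply] at this

theorem exists_near : ∃ x, Near A x := by
  haveI : Fact (Nat.Prime 2) := ⟨Nat.prime_two⟩
  haveI := M.normal
  set π := QuotientGroup.mk' A with hπ
  have hne : (⊤ : Subgroup (P ⧸ A)) ≠ ⊥ := by
    intro e
    have hall : ∀ x, x ∈ A := fun x => (QuotientGroup.eq_one_iff x).1 (mem_bot.1 (e.le (mem_top (π x))))
    obtain ⟨x, y, hxy⟩ := H.nab
    exact hxy (M.comm x (hall x) y (hall y))
  obtain ⟨q, -, hq1, hqc⟩ := Cfsg.Lib.PGroupInduced.exists_central_mem (H.two.to_quotient A) hne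
  obtain ⟨q', hq'c, hq'1, hq'2⟩ : ∃ q' ∈ center (P ⧸ A), q' ≠ 1 ∧ q' * q' = 1 := by
    obtain ⟨k, hk⟩ := (H.two.to_quotient A) q
    induction k generalizing q with
    | zero => exact absurd (by simpa using hk) hq1
    | succ k ih =>
      by_cases h : q * q = 1
      · exact ⟨q, hqc, hq1, h⟩
      · exact ih (q * q) h (mul_mem hqc hqc) (by rw [← pow_two, ← pow_mul, ← pow_succ', hk])
  obtain ⟨x, rfl⟩ := QuotientGroup.mk'_surjective A q'
  refine ⟨x, fun h => hq'1 ((QuotientGroup.eq_one_iff x).2 h),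
    (QuotientGroup.eq_one_iff _).1 (by rw [← map_mul] at hq'2; exact hq'2), fun s => (QuotientGroup.eq_one_iff _).1 ?_⟩
  show π (x * s * x⁻¹ * s⁻¹) = 1
  rw [← hπ] at hq'c
  rw [map_mul, map_mul, map_mul, ← mem_center_iff.1 hq'c (π s), map_inv, map_inv]
  group

/-- the square of a near element has order at most two -/
theorem near_sq {x : P} (hx : Near A x) : x * x * (x * x) = 1 := by
  by_contra hsq
  obtain ⟨hxA, hx2, hxs⟩ := hx
  have horb := H.near_orbit M ⟨hxA, hx2, hxs⟩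
  obtain ⟨j, hj2, hj4⟩ := exists_four H.two hsq
  have hv := pow_mem hx2 j
  have hxv : x * (x * x) ^ j * x⁻¹ = (x * x) ^ j := by
    rw [(show Commute x (x * x) from (mul_assoc x x x).symm).pow_right j |>.eq, mul_inv_cancel_right]
  have h2 := H.kill M hv horb hxv (H.nn_four M (M.inv _ hv) (by rw [← map_mul, ← map_mul, hj4, map_one]))
  have hfour := H.fix_span M hv hj2 hj4 hxv h2
  -- `n = a⁻¹ x a x⁻¹` is inverted by `x`, hence an involution
  have hxx : ∀ a ∈ A, x * (x * a * x⁻¹) * x⁻¹ = a := fun a ha => by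
    rw [show x * (x * a * x⁻¹) * x⁻¹ = x * x * a * (x * x)⁻¹ by group, M.comm _ hx2 _ ha, mul_inv_cancel_right]
  have hinv : ∀ t ∈ A, x * t * x⁻¹ = t⁻¹ → t * t = 1 := by
    intro t ht e
    by_contra h
    obtain ⟨i, hi2, hi4⟩ := exists_four H.two h
    refine hi2 ?_
    have h1 := hfour _ (pow_mem ht i) hi4
    rw [← conj_pow, e, inv_pow] at h1
    calc t ^ i * t ^ i = t ^ i * (t ^ i)⁻¹ := by rw [h1]
      _ = 1 := mul_inv_cancel _
  have hn2 : ∀ a ∈ A, nn x a * nn x a = 1 := fun a ha => hinv _ (H.nn_mem M ha) (by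
    rw [nn, show x * (a⁻¹ * (x * a * x⁻¹)) * x⁻¹ = (x * a * x⁻¹)⁻¹ * (x * (x * a * x⁻¹) * x⁻¹) by group,
      hxx a ha]
    group)
  -- squares
  let sq : A →* A := MonoidHom.mk' (fun a => ⟨(a : P) * a, mul_mem a.2 a.2⟩) fun a b => Subtype.ext (by
    show (a : P) * b * (a * b) = a * a * (b * b)
    calc (a : P) * b * (a * b) = a * (b * a) * b := by group
      _ = _ := by rw [M.comm _ b.2 _ a.2]; group)
  obtain ⟨u₀, hu₀, hu₀4⟩ : ∃ u ∈ A, u * u ≠ 1 ∧ u * u * (u * u) = 1 := ⟨_, hv, hj2, hj4⟩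
  have hinvsq : ∀ w : P, w * w = 1 → ∃ q ∈ A, q * q = w := by
    intro w hw
    rcases H.four hu₀4.2 hu₀4.1 w hw with e | e | e | e
    · exact ⟨1, one_mem _, by rw [e, one_mul]⟩
    · exact ⟨u₀, hu₀, e.symm⟩
    · exact ⟨f u₀, M.inv _ hu₀, by rw [e, map_mul]⟩
    · exact ⟨u₀ * f u₀, mul_mem hu₀ (M.inv _ hu₀), by
        rw [e, map_mul, show u₀ * f u₀ * (u₀ * f u₀) = u₀ * (f u₀ * u₀) * f u₀ by group,
          M.comm _ (M.inv _ hu₀) _ hu₀]
        group⟩
  let φ : A →* A := MonoidHom.mk' (fun t => ⟨(t : P) * (x * t * x⁻¹), mul_mem t.2 (M.normal.conj_mem _ t.2 x)⟩)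
    fun a b => Subtype.ext (by
      show (a : P) * b * (x * (a * b) * x⁻¹) = a * (x * a * x⁻¹) * (b * (x * b * x⁻¹))
      calc (a : P) * b * (x * (a * b) * x⁻¹) = a * (b * (x * a * x⁻¹)) * (x * b * x⁻¹) := by group
        _ = _ := by rw [M.comm _ b.2 _ (M.normal.conj_mem _ a.2 x)]; group)
  have hker : φ.ker = sq.ker := by
    ext t
    rw [MonoidHom.mem_ker, MonoidHom.mem_ker, Subtype.ext_iff, Subtype.ext_iff]
    show (t : P) * (x * t * x⁻¹) = 1 ↔ (t : P) * t = 1
    refine ⟨fun e => hinv _ t.2 (eq_inv_of_mul_eq_one_right e), fun e => ?_⟩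
    rw [H.cen _ e x, mul_inv_cancel_right, e]
  have hrle : φ.range ≤ sq.range := by
    rintro _ ⟨t, rfl⟩
    obtain ⟨q, hq, hq2⟩ := hinvsq _ (hn2 t t.2)
    refine ⟨t * ⟨q, hq⟩, Subtype.ext ?_⟩
    show (t : P) * q * (t * q) = t * (x * t * x⁻¹)
    rw [conj_eq_mul_nn x t, ← hq2]
    calc (t : P) * q * (t * q) = t * (q * t) * q := by group
      _ = _ := by rw [M.comm _ hq _ t.2]; group
  have hreq : φ.range = sq.range := by
    refine eq_of_le_of_card_ge hrle (le_of_eq ?_)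
    rw [← Subgroup.index_ker, ← Subgroup.index_ker, hker]
  -- the square of `x` is not a square
  have he : (⟨x * x, hx2⟩ : A) ∉ sq.range := by
    intro hm
    rw [← hreq] at hm
    obtain ⟨t, ht⟩ := inv_mem hm
    have ht' : (t : P) * (x * t * x⁻¹) = (x * x)⁻¹ := congrArg Subtype.val ht
    refine hxA ?_
    have h1 : (t : P) * x ∈ A := M.invol _ (by
      calc (t : P) * x * (t * x) = t * (x * t * x⁻¹) * (x * x) := by group
        _ = 1 := by rw [ht', inv_mul_cancel])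
    rw [show x = (t : P)⁻¹ * (t * x) by group]
    exact mul_mem (inv_mem t.2) h1
  -- `x` fixes its square, the image and all squares, so everything
  set e := x * x with he'
  have hxe : x * e * x⁻¹ = e := by rw [he']; group
  have hxfe : x * f e * x⁻¹ = f e := H.kill M hx2 horb hxe (hn2 _ (M.inv _ hx2))
  let T : Subgroup A :=
    { carrier := {a | x * (a : P) * x⁻¹ = a}
      one_mem' := by simp
      mul_mem' := fun {a b} (ha : x * (a : P) * x⁻¹ = a) (hb : x * (b : P) * x⁻¹ = b) =>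
        show x * ((a : P) * b) * x⁻¹ = a * b by
          rw [show x * ((a : P) * b) * x⁻¹ = x * a * x⁻¹ * (x * b * x⁻¹) by group, ha, hb]
      inv_mem' := fun {a} (ha : x * (a : P) * x⁻¹ = a) => show x * (a : P)⁻¹ * x⁻¹ = (a : P)⁻¹ by
        rw [show x * (a : P)⁻¹ * x⁻¹ = (x * a * x⁻¹)⁻¹ by group, ha] }
  have hsqT : sq.range ≤ T := by
    rintro _ ⟨b, rfl⟩
    show x * ((b : P) * b) * x⁻¹ = b * b
    rw [show x * ((b : P) * b) * x⁻¹ = x * b * x⁻¹ * (x * b * x⁻¹) by group, conj_eq_mul_nn x b]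
    calc (b : P) * nn x b * (b * nn x b) = b * (nn x b * b) * nn x b := by group
      _ = b * b * (nn x b * nn x b) := by rw [M.comm _ (H.nn_mem M b.2) _ b.2]; group
      _ = _ := by rw [hn2 _ b.2, mul_one]
  suffices hT : T = ⊤ by
    refine hxA (M.self x fun a ha => ?_)
    have : (⟨a, ha⟩ : A) ∈ T := hT ▸ mem_top _
    exact mul_inv_eq_iff_eq_mul.1 this
  -- four cosets of the squares
  have hSinv : ∀ a : A, a ∈ sq.range → (⟨f a, M.inv _ a.2⟩ : A) ∈ sq.range := by
    rintro _ ⟨b, rfl⟩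
    exact ⟨⟨f b, M.inv _ b.2⟩, Subtype.ext (show f (b : P) * f b = f (b * b) by rw [map_mul])⟩
  let S' : Subgroup P := sq.range.map A.subtype
  have hS' : ∀ a ∈ S', f a ∈ S' := by
    rintro _ ⟨a, ha, rfl⟩
    exact ⟨_, hSinv a ha, rfl⟩
  have hmem : ∀ a : A, (a : P) ∈ S' ↔ a ∈ sq.range := fun a =>
    mem_map_iff_mem A.subtype_injective
  set ea : A := ⟨e, hx2⟩
  set fa : A := ⟨f e, M.inv _ hx2⟩
  have hfa : fa ∉ sq.range := fun h => he (by
    have := hSinv _ (hSinv _ h)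
    simp only [fa, H.cube] at this
    exact this)
  have hef : ea⁻¹ * fa ∉ sq.range := fun h => he ((hmem ea).1 (H.coset_fix hS' ((hmem _).2 h)))
  have heff : ea * fa ∉ sq.range := fun h => by
    refine he ?_
    have h3 := hSinv _ (inv_mem h)
    have h5 : (⟨f ((ea * fa)⁻¹ : A), M.inv _ ((ea * fa)⁻¹).2⟩ : A) = ea := by
      apply Subtype.ext
      show f (e * f e)⁻¹ = e
      have h6 := H.orbit_one M hx2
      rw [← mul_assoc] at h6
      rw [← eq_inv_of_mul_eq_one_right h6, H.cube]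
    rwa [h5] at h3
  have hidx : sq.range.index = 4 := by
    have h1 := sq.range.card_mul_index
    have h2 := sq.ker.card_mul_index
    rw [Subgroup.index_ker] at h2
    have h3 : Nat.card sq.ker = 4 := by
      rw [← H.card]
      exact Nat.card_congr
        { toFun := fun a => ⟨((a : A) : P), congrArg Subtype.val (MonoidHom.mem_ker.1 a.2)⟩
          invFun := fun w => ⟨⟨w, M.invol _ w.2⟩, MonoidHom.mem_ker.2 (Subtype.ext w.2)⟩
          left_inv := fun _ => rfl
          right_inv := fun _ => rfl }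
    rw [h3] at h2
    have h4 : 0 < Nat.card sq.range := Nat.card_pos
    nlinarith
  letI : CommGroup A :=
    { (inferInstance : Group A) with mul_comm := fun a b => Subtype.ext (M.comm _ a.2 _ b.2) }
  classical
  haveI : Fintype (A ⧸ sq.range) := Fintype.ofFinite _
  set Q : Finset (A ⧸ sq.range) := {1, (ea : A ⧸ sq.range), (fa : A ⧸ sq.range), ((ea * fa : A) : A ⧸ sq.range)}
  have hQ : Q = Finset.univ := by
    refine Finset.eq_univ_of_card _ ?_
    have e1 : (ea : A ⧸ sq.range) ≠ fa := fun e => hef (QuotientGroup.eq.1 e)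
    have e2 : (ea : A ⧸ sq.range) ≠ ((ea * fa : A) : A ⧸ sq.range) := fun e => hfa (by
      have := QuotientGroup.eq.1 e
      rwa [inv_mul_cancel_left] at this)
    have e3 : (fa : A ⧸ sq.range) ≠ ((ea * fa : A) : A ⧸ sq.range) := fun e => he (by
      have := QuotientGroup.eq.1 e
      rwa [mul_comm ea fa, inv_mul_cancel_left] at this)
    rw [← Nat.card_eq_fintype_card, ← index_eq_card, hidx]
    simp only [Q]
    rw [Finset.card_insert_of_notMem, Finset.card_insert_of_notMem, Finset.card_insert_of_notMem,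
      Finset.card_singleton]
    · simpa using e3
    · simpa using And.intro e1 e2
    · simp only [Finset.mem_insert, Finset.mem_singleton, not_or]
      exact ⟨fun e => he ((QuotientGroup.eq_one_iff _).1 e.symm), fun e => hfa ((QuotientGroup.eq_one_iff _).1 e.symm),
        fun e => heff ((QuotientGroup.eq_one_iff _).1 e.symm)⟩
  refine (Subgroup.eq_top_iff' T).2 fun a => ?_
  have hmemQ : (a : A ⧸ sq.range) ∈ Q := hQ ▸ Finset.mem_univ _
  simp only [Q, Finset.mem_insert, Finset.mem_singleton] at hmemQ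
  have step : ∀ b ∈ T, (b : A ⧸ sq.range) = a → a ∈ T := fun b hb e => by
    have := T.mul_mem hb (hsqT (QuotientGroup.eq.1 e))
    rwa [mul_inv_cancel_left] at this
  rcases hmemQ with e | e | e | e
  · exact step 1 (one_mem _) (by rw [e]; rfl)
  · exact step ea hxe e.symm
  · exact step fa hxfe e.symm
  · exact step _ (T.mul_mem (show ea ∈ T from hxe) hxfe) e.symm

/-- `A` has exponent four -/
theorem exp_four : ∀ a ∈ A, a * a * (a * a) = 1 := by
  intro t ht
  obtain ⟨x, hx⟩ := H.exists_near M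
  have hy := H.near_image M hx
  have hxy : Near A (x * f x) := by
    have hc : f x * x = x * f x * ((f x)⁻¹ * x⁻¹ * f x * x) := by group
    refine ⟨fun h => hx.1 (H.coset_fix M.inv ?_), ?_, fun s => ?_⟩
    · rw [show x⁻¹ * f x = (x * x)⁻¹ * (x * f x) by group]
      exact mul_mem (inv_mem hx.2.1) h
    · rw [show x * f x * (x * f x) = x * x * (x⁻¹ * (f x * x * (f x)⁻¹ * x⁻¹) * (x⁻¹)⁻¹) * (f x * f x) by group]
      exact mul_mem (mul_mem hx.2.1 (M.normal.conj_mem _ (hy.2.2 x) _)) hy.2.1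
    · rw [show x * f x * s * (x * f x)⁻¹ * s⁻¹ =
        x * (f x * s * (f x)⁻¹ * s⁻¹) * x⁻¹ * (x * s * x⁻¹ * s⁻¹) by group]
      exact mul_mem (M.normal.conj_mem _ (hy.2.2 s) x) (hx.2.2 s)
  have key : ∀ y, Near A y → y * (t * t) * y⁻¹ = (t * t)⁻¹ := by
    intro y hy
    have h1 : Near A (t * y) := by
      refine ⟨fun h => hy.1 ?_, ?_, fun s => ?_⟩
      · rw [show y = t⁻¹ * (t * y) by group]; exact mul_mem (inv_mem ht) h
      · rw [show t * y * (t * y) = t * (y * t * y⁻¹) * (y * y) by group]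
        exact mul_mem (mul_mem ht (M.normal.conj_mem _ ht y)) hy.2.1
      · rw [show t * y * s * (t * y)⁻¹ * s⁻¹ = t * (y * s * y⁻¹ * s⁻¹) * (s * t⁻¹ * s⁻¹) by group]
        exact mul_mem (mul_mem ht (hy.2.2 s)) (M.normal.conj_mem _ (inv_mem ht) s)
    have h2 := H.near_sq M h1
    have h3 := H.near_sq M hy
    have hgt := M.normal.conj_mem _ ht y
    have hm := mul_mem ht hgt
    rw [show t * y * (t * y) = t * (y * t * y⁻¹) * (y * y) by group] at h2
    have h4 : t * (y * t * y⁻¹) * (t * (y * t * y⁻¹)) = 1 := by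
      calc t * (y * t * y⁻¹) * (t * (y * t * y⁻¹))
          = t * (y * t * y⁻¹) * (t * (y * t * y⁻¹)) * (y * y * (y * y)) := by rw [h3, mul_one]
        _ = t * (y * t * y⁻¹) * (t * (y * t * y⁻¹) * (y * y)) * (y * y) := by simp only [mul_assoc]
        _ = t * (y * t * y⁻¹) * (y * y * (t * (y * t * y⁻¹))) * (y * y) := by rw [M.comm _ hm _ hy.2.1]
        _ = 1 := by simp only [mul_assoc] at h2 ⊢; exact h2
    refine eq_inv_of_mul_eq_one_right ?_
    calc t * t * (y * (t * t) * y⁻¹) = t * (t * (y * t * y⁻¹)) * (y * t * y⁻¹) := by group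
      _ = t * ((y * t * y⁻¹) * t) * (y * t * y⁻¹) := by rw [M.comm _ ht _ hgt]
      _ = 1 := by simp only [mul_assoc] at h4 ⊢; exact h4
  have h5 : x * f x * (t * t) * (x * f x)⁻¹ = t * t := by
    rw [show x * f x * (t * t) * (x * f x)⁻¹ = x * (f x * (t * t) * (f x)⁻¹) * x⁻¹ by group, key _ hy,
      show x * (t * t)⁻¹ * x⁻¹ = (x * (t * t) * x⁻¹)⁻¹ by group, key _ hx, inv_inv]
  have h6 := key _ hxy
  rw [h5] at h6
  exact mul_eq_one_iff_eq_inv.2 h6

theorem nn_sq {s a : P} (ha : a ∈ A) : nn s a * nn s a = 1 := H.nn_four M ha (H.exp_four M a ha)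

theorem nn_mul_left {s t a : P} (ha : a ∈ A) : nn (s * t) a = nn s a * nn t a := by
  have hc := H.cen _ (H.nn_sq M (s := t) ha) s
  calc nn (s * t) a = a⁻¹ * (s * (t * a * t⁻¹) * s⁻¹) := by rw [nn]; group
    _ = a⁻¹ * (s * a * (nn t a * s⁻¹)) := by rw [conj_eq_mul_nn t a]; group
    _ = a⁻¹ * (s * a * (s⁻¹ * nn t a)) := by rw [H.cen _ (H.nn_sq M (s := t) ha) s⁻¹]
    _ = _ := by rw [show nn s a = a⁻¹ * (s * a * s⁻¹) from rfl]; group

theorem sq_mem (s : P) : s * s ∈ A := M.self _ fun a ha => by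
  have h := conj_eq_mul_nn (s * s) a
  rw [H.nn_mul_left M ha, H.nn_sq M ha, mul_one] at h
  exact mul_inv_eq_iff_eq_mul.1 h

theorem comm_mem (s t : P) : s * t * s⁻¹ * t⁻¹ ∈ A := by
  rw [show s * t * s⁻¹ * t⁻¹ = s * t * (s * t) * (t⁻¹ * (s * s)⁻¹ * (t⁻¹)⁻¹) * (t * t)⁻¹ by group]
  exact mul_mem (mul_mem (H.sq_mem M _) (M.normal.conj_mem _ (inv_mem (H.sq_mem M s)) _))
    (inv_mem (H.sq_mem M t))

/-- every square has order at most two -/
theorem sq_sq (s : P) : s * s * (s * s) = 1 := by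
  by_cases hs : s ∈ A
  · exact H.exp_four M s hs
  · exact H.near_sq M ⟨hs, H.sq_mem M s, H.comm_mem M s⟩

theorem comm_sq (s t : P) : s * t * s⁻¹ * t⁻¹ * (s * t * s⁻¹ * t⁻¹) = 1 := by
  have h : s * t * s⁻¹ * t⁻¹ ∈ Omg H.cen := by
    rw [show s * t * s⁻¹ * t⁻¹ = s * t * (s * t) * (t⁻¹ * (s * s)⁻¹) * t⁻¹ by group,
      ← H.cen _ (inv_mem (H.sq_sq M s) : (s * s)⁻¹ ∈ Omg H.cen) t⁻¹ |>.symm]
    rw [show s * t * (s * t) * ((s * s)⁻¹ * t⁻¹) * t⁻¹ = s * t * (s * t) * (s * s)⁻¹ * (t⁻¹ * t⁻¹) by group]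
    exact mul_mem (mul_mem (H.sq_sq M _ : _ ∈ Omg H.cen) (inv_mem (H.sq_sq M s : _ ∈ Omg H.cen)))
      (H.sq_sq M t⁻¹ : _ ∈ Omg H.cen)
  exact h

/-- an element fixing an element of order four of `A` lies in `A` -/
theorem mem_of_fix {s u : P} (hu : u ∈ A) (hu2 : u * u ≠ 1) (h1 : s * u * s⁻¹ = u) : s ∈ A := by
  by_contra hs
  have horb := H.near_orbit M ⟨hs, H.sq_mem M s, H.comm_mem M s⟩
  have h2 := H.kill M hu horb h1 (H.nn_sq M (M.inv u hu))
  have h3 := H.fix_span M hu hu2 (H.exp_four M u hu) h1 h2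
  exact hs (M.self s fun a ha => mul_inv_eq_iff_eq_mul.1 (h3 a ha (H.exp_four M a ha)))

theorem card_A : Nat.card A = 16 := by
  obtain ⟨u, hu, hu2⟩ := H.exists_sq_ne M
  let sq : A →* Omg H.cen := MonoidHom.mk' (fun a => ⟨(a : P) * a, H.exp_four M a a.2⟩) fun a b => Subtype.ext (by
    show (a : P) * b * (a * b) = a * a * (b * b)
    calc (a : P) * b * (a * b) = a * (b * a) * b := by group
      _ = _ := by rw [M.comm _ b.2 _ a.2]; group)
  have hsurj : Function.Surjective sq := by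
    rintro ⟨w, hw⟩
    rcases H.four (H.exp_four M u hu) hu2 w hw with e | e | e | e
    · exact ⟨1, Subtype.ext ((one_mul (1 : P)).trans e.symm)⟩
    · exact ⟨⟨u, hu⟩, Subtype.ext e.symm⟩
    · exact ⟨⟨f u, M.inv u hu⟩, Subtype.ext ((map_mul f u u).symm.trans e.symm)⟩
    · refine ⟨⟨u * f u, mul_mem hu (M.inv u hu)⟩, Subtype.ext ?_⟩
      show u * f u * (u * f u) = w
      rw [e, map_mul, show u * f u * (u * f u) = u * (f u * u) * f u by group, M.comm _ (M.inv u hu) _ hu]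
      group
  have hker : Nat.card sq.ker = 4 := by
    rw [← H.card]
    exact Nat.card_congr
      { toFun := fun a => ⟨((a : A) : P), congrArg Subtype.val (MonoidHom.mem_ker.1 a.2)⟩
        invFun := fun w => ⟨⟨w, M.invol _ w.2⟩, MonoidHom.mem_ker.2 (Subtype.ext w.2)⟩
        left_inv := fun _ => rfl
        right_inv := fun _ => rfl }
  rw [← sq.ker.card_mul_index, Subgroup.index_ker, hker, MonoidHom.range_eq_top.2 hsurj, card_top,
    show Nat.card (Omg H.cen) = 4 from H.card]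

theorem index_A : A.index = 4 := by
  obtain ⟨u, hu, hu2⟩ := H.exists_sq_ne M
  let ψ : P →* Omg H.cen := MonoidHom.mk' (fun s => ⟨nn s u, H.nn_sq M hu⟩) fun s t =>
    Subtype.ext (H.nn_mul_left M hu)
  have hker : ψ.ker = A := by
    ext s
    rw [MonoidHom.mem_ker, Subtype.ext_iff]
    show nn s u = 1 ↔ s ∈ A
    refine ⟨fun e => H.mem_of_fix M hu hu2 (by rw [conj_eq_mul_nn, e, mul_one]), fun hs => ?_⟩
    rw [nn, M.comm _ hs _ hu, mul_inv_cancel_right, inv_mul_cancel]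
  rw [← hker, Subgroup.index_ker]
  obtain ⟨x, hx, -⟩ := H.exists_near M
  have hdvd : Nat.card ψ.range ∣ 4 := H.card ▸ ψ.range.card_subgroup_dvd_card
  have hle := Nat.le_of_dvd (by norm_num) hdvd
  have hcases : Nat.card ψ.range = 1 ∨ Nat.card ψ.range = 2 ∨ Nat.card ψ.range = 4 := by
    generalize Nat.card ψ.range = k at hdvd hle
    have hk : 0 < k := Nat.pos_of_dvd_of_pos hdvd (by norm_num)
    interval_cases k <;> simp_all
  rw [← Subgroup.index_ker, hker] at hcases ⊢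
  rcases hcases with h | h | h
  · exact absurd (Subgroup.index_eq_one.1 h ▸ mem_top x) hx
  · refine absurd (H.coset_fix M.inv ((mul_mem_iff_of_index_two h).2 ?_)) hx
    have hfx : f x ∉ A := fun h => hx (by
      obtain ⟨b, hb, e⟩ := H.surj_inv M.inv h
      exact f.injective e ▸ hb)
    simp [inv_mem_iff, hx, hfx]
  · exact h

end Hyp

end Cfsg.Lib.Lyons.Three
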